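import Cfsg.Agent.Lib.Leech.Stab.HSOrbits
import Cfsg.Agent.Lib.Leech.Simple.Pairs
import Cfsg.Agent.Lib.PermAut.HS.Checks
import Cfsg.Agent.Lib.PermAut.HS.Pair
import Cfsg.Prelude.Def_Spor_Conway

/-!
The stabiliser of the pair of lattice vectors is the checked group of degree 100.
-/

set_option autoImplicit false

namespace CfsgLib.PermAut.HS

open Cfsg CfsgLib CfsgLib.Comp CfsgLib.Leech CfsgLib.Leech.Stab

/-- The codes of the hundred vectors. -/
def vecs : List ℕ := hS100Cert.codes

/-- An image table agrees with the columns of a line of the program. -/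
noncomputable def linOk (k g : ℕ) : Bool :=
  Nat.blt k hS100Cert.slp.length && hS100Cert.gens.contains k && PermCode.okb 100 g &&
    PermCode.allLt 100 fun i =>
      applyC (colsAt hS100Cert.slp k) (vecs.getD i 0) == 8 * colZ (vecs.getD (PermCode.get g i) 0)

theorem vecs_check : (Nat.beq vecs.length 100 && vecs.all fun n => latB n &&
    dotZ (dig 24 n) (dig 24 n) == 32 &&
    hS100Cert.fix.all fun e => latB e.1 && dotZ (dig 24 n) (dig 24 e.1) == e.2) = true := by
  decide +kernel

theorem lin_check : (linOk 72 g1 && linOk 95 g2) = true := by decide +kernel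

theorem vec_spec (i : Fin 100) : latB (vecs.getD i 0) = true ∧ lat (vecs.getD i 0) ∈ hS100Cert.set := by
  have h := vecs_check
  simp only [Bool.and_eq_true, List.all_eq_true, beq_iff_eq] at h
  have hi : (i : ℕ) < vecs.length := by rw [Nat.eq_of_beq_eq_true h.1]; exact i.2
  obtain ⟨⟨h1, h2⟩, h3⟩ := h.2 (vecs.getD i 0) (by rw [List.getD_eq_getElem _ _ hi]; exact List.getElem_mem hi)
  refine ⟨h1, by rw [← dotInt_self, ← dotZ_listOf, (listOf_lat h1).1, h2], fun e he => ?_⟩
  rw [← dotZ_listOf, (listOf_lat h1).1, (listOf_lat (h3 e he).1).1, (h3 e he).2]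

/-- The numbering of the hundred vectors. -/
noncomputable def pts : Fin 100 ≃ hS100Cert.set :=
  Equiv.ofBijective (fun i => ⟨lat (vecs.getD i 0), (vec_spec i).2⟩) (by
    haveI : Finite hS100Cert.set :=
      Set.finite_of_ncard_pos (by rw [hs_ncard.1]; norm_num)
    refine (Nat.bijective_iff_injective_and_card _).2 ⟨fun i j e => ?_, by
      rw [Nat.card_eq_fintype_card, Fintype.card_fin, Nat.card_coe_set_eq, hs_ncard.1]⟩
    have e1 : lat (vecs.getD i 0) = lat (vecs.getD j 0) := congrArg Subtype.val e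
    have r1 := (listOf_lat (vec_spec i).1).2.1
    rw [e1] at r1
    have r2 := (listOf_lat (vec_spec j).1).2.1
    have e2 : colZ (vecs.getD i 0) = colZ (vecs.getD j 0) := r1.symm.trans r2
    simp only [colZ] at e2
    have e3 : vecs.getD i 0 = vecs.getD j 0 := by omega
    have hlen : vecs.length = 100 := by
      have h := vecs_check
      rw [Bool.and_eq_true] at h
      exact Nat.eq_of_beq_eq_true h.1
    rw [List.getD_eq_getElem _ _ (hlen.symm ▸ i.2), List.getD_eq_getElem _ _ (hlen.symm ▸ j.2)] at e3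
    exact Fin.ext ((nodupB_spec _ _ hS100_nodup).1.getElem_inj_iff.1 e3))

/-- The stabiliser of the two vectors. -/
noncomputable abbrev K : Subgroup Co0 := pairStab ptU ptW

theorem fixes_of_mem {g : Co0} (hg : g ∈ K) : hS100Cert.Fixes g := by
  intro e he
  simp only [hS100Cert, List.mem_cons, List.not_mem_nil, or_false] at he
  rcases he with rfl | rfl
  · exact hg.1
  · exact hg.2

theorem mem_of_fixes {g : Co0} (hg : hS100Cert.Fixes g) : g ∈ K :=
  ⟨hg (_, 24) (by simp [hS100Cert]), hg (_, -24) (by simp [hS100Cert])⟩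

/-- The action on the hundred vectors. -/
noncomputable def act : K →* Equiv.Perm (Fin 100) :=
  pts.symm.permCongrHom.toMonoidHom.comp
    (MonoidHom.mk' (fun g =>
      { toFun := fun x => ⟨(g : Co0) • x.1, mem_set_smul (fixes_of_mem g.2) x.2⟩
        invFun := fun x => ⟨((g⁻¹ : K) : Co0) • x.1, mem_set_smul (fixes_of_mem (g⁻¹).2) x.2⟩
        left_inv := fun x => Subtype.ext (inv_smul_smul (g : Co0) x.1)
        right_inv := fun x => Subtype.ext (smul_inv_smul (g : Co0) x.1) })
      fun a b => Equiv.ext fun x => Subtype.ext (mul_smul (a : Co0) (b : Co0) x.1))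

theorem mem_range_of_linOk {k g : ℕ} (h : linOk k g = true) :
    PermCode.val 100 g ∈ act.range := by
  simp only [linOk, Bool.and_eq_true, Nat.blt_eq, List.contains_iff_mem, beq_iff_eq] at h
  obtain ⟨⟨⟨hk, hkg⟩, hok⟩, himg⟩ := h
  have hb := hS100_base
  simp only [Cert.baseB, Bool.and_eq_true, List.all_eq_true, beq_iff_eq] at hb
  obtain ⟨⟨⟨⟨hslp, hfix⟩, -⟩, -⟩, hgens⟩ := hb
  obtain ⟨u, hu⟩ := slp_sound hslp k hk
  have hfixu : hS100Cert.Fixes u := by
    intro e he
    obtain ⟨hl1, hl2, hl3⟩ := listOf_lat (hfix e he).1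
    refine Subtype.ext (rep_inj (rep_smul hu hl2 hl3 ((hgens k hkg).2 e he)) hl2 ?_ hl3)
    rw [sqNorm_smul]; exact hl3
  refine ⟨⟨u, mem_of_fixes hfixu⟩, ?_⟩
  symm
  refine PermCode.val_eq_of hok _ fun i => ?_
  have hi := PermCode.allLt_spec himg i i.2
  rw [beq_iff_eq] at hi
  have hj : PermCode.get g i < 100 := (PermCode.ok_of_okb hok).1 i i.2
  obtain ⟨-, r1, n1⟩ := listOf_lat (vec_spec i).1
  obtain ⟨-, r2, n2⟩ := listOf_lat (vec_spec ⟨PermCode.get g i, hj⟩).1
  have key : u • lat (vecs.getD i 0) = lat (vecs.getD (PermCode.get g i) 0) :=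
    Subtype.ext (rep_inj (rep_smul hu r1 n1 hi) r2 (by rw [sqNorm_smul]; exact n1) n2)
  have e : act ⟨u, mem_of_fixes hfixu⟩ i = ⟨PermCode.get g i, hj⟩ := by
    show pts.symm _ = _
    rw [Equiv.symm_apply_eq]
    exact Subtype.ext key
  rw [e]

theorem card_K : Nat.card K = 44352000 :=
  card_pair_hs pt_dots.1 pt_dots.2.2.2.1 (by
    rw [ptU, ptW, dot_lat pt_checks.1 pt_checks.2.2.2.1]; decide +kernel)

theorem simple_K : IsSimpleGroup K :=
  (isHS_pairStab pt_dots.1 pt_dots.2.2.2.1 (by
    rw [ptU, ptW, dot_lat pt_checks.1 pt_checks.2.2.2.1]; decide +kernel)).1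

theorem grp_card : Nat.card grp = 44352000 := gen_card

theorem act_range : act.range = grp := by
  have h := lin_check
  rw [Bool.and_eq_true] at h
  have hg := gens_mem
  rw [Bool.and_eq_true] at hg
  have hle : PermCode.span 100 pairGens ≤ act.range := PermAut.span_le fun s hs => by
    simp only [pairGens, List.mem_cons, List.not_mem_nil, or_false] at hs
    rcases hs with rfl | rfl
    · exact mem_range_of_linOk h.1
    · exact mem_range_of_linOk h.2
  have hgrp : PermCode.span 100 pairGens = grp := by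
    refine Subgroup.eq_of_le_of_card_ge (PermAut.span_le fun s hs => ?_) (by rw [pair_card]; exact grp_card.le)
    simp only [pairGens, List.mem_cons, List.not_mem_nil, or_false] at hs
    rcases hs with rfl | rfl
    · exact (memH_spec g1 hg.1).2
    · exact (memH_spec g2 hg.2).2
  rw [← hgrp]
  refine (Subgroup.eq_of_le_of_card_ge hle ?_).symm
  rw [pair_card, ← card_K]
  exact Nat.card_le_card_of_surjective _ act.rangeRestrict_surjective

theorem act_injective : Function.Injective act := by
  rcases simple_K.eq_bot_or_eq_top_of_normal act.ker inferInstance with h | h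
  · exact (MonoidHom.ker_eq_bot_iff act).1 h
  · exfalso
    have h1 : act.range = ⊥ := by
      rw [eq_bot_iff]
      rintro _ ⟨g, rfl⟩
      exact Subgroup.mem_bot.2 (MonoidHom.mem_ker.1 (h ▸ Subgroup.mem_top g))
    have hc := grp_card
    rw [← act_range, h1, Subgroup.card_bot] at hc
    norm_num at hc

theorem nonempty_equiv : Nonempty (↥Spor.HS ≃* ↥grp) := by
  let w : leechLattice := -Spor.leechV - Spor.leechU'
  have e0 : ↥Spor.HS ≃* ↥(pairStab Spor.leechV w) :=
    { toFun := fun g => ⟨⟨g.1, g.2.1.1⟩, g.2.1.2, by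
        show (⟨g.1, g.2.1.1⟩ : Co0) • w = w
        have h1 : (⟨g.1, g.2.1.1⟩ : Co0) • Spor.leechV = Spor.leechV := g.2.1.2
        have h2 : (⟨g.1, g.2.1.1⟩ : Co0) • Spor.leechU' = Spor.leechU' := g.2.2
        simp only [w, sub_eq_add_neg, smul_add', smul_neg', h1, h2]⟩
      invFun := fun g => ⟨g.1.1, ⟨g.1.2, g.2.1⟩, by
        have h1 : g.1 • Spor.leechV = Spor.leechV := g.2.1
        have h2 : g.1 • w = w := g.2.2
        simp only [w, sub_eq_add_neg, smul_add', smul_neg', h1] at h2
        show g.1 • Spor.leechU' = Spor.leechU'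
        exact neg_injective (add_left_cancel h2)⟩
      left_inv := fun g => rfl
      right_inv := fun g => rfl
      map_mul' := fun a b => rfl }
  obtain ⟨a, ha, haw⟩ := normal_hs (v := Spor.leechV) (w := w) (by decide +kernel) (by decide +kernel)
    (by decide +kernel)
  obtain ⟨e1⟩ := nonempty_pairStab_equiv ha haw
  exact ⟨(e0.trans e1).trans ((MonoidHom.ofInjective act_injective).trans
    (MulEquiv.subgroupCongr act_range))⟩

end CfsgLib.PermAut.HS
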