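import Cfsg.Agent.Lib.PermAut.Check
import Cfsg.Agent.Lib.PermAut.HS.Gens
import Cfsg.Agent.Lib.PermAut.HS.Orbits

/-!
Generated data: the certificate for the automorphisms.
-/

set_option autoImplicit false
set_option maxRecDepth 400000

namespace CfsgLib.PermAut.HS

/-- The certificate. -/
def cert : PermAut.Data where
  n := 100
  p := 11
  x := 2241493248958967856581234111560964458894282961006455167525255858611977929904422429050189846297765018949761989692549939619967650255545502432232169995846871634394415190785270019522121019986796694715018990107861587445910092073425544767585928010
  y := 522160850621654814143806398615471399624302934801234976674455616417433730867578000140241914656474139168475807436461863046898119033134888888031213397783194946167149341587661776572769716794374704256651660716956777027038625116843394418850070865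
  pows := [2588655999132934122181803592540829401478235741461634534425884386008017778261719400438093571377185951795686623037610591646536207750197451012513534182007527469183024343517905167456239111873246185932456637713715053908893521621807855268498899200, 2241493248958967856581234111560964458894282961006455167525255858611977929904422429050189846297765018949761989692549939619967650255545502432232169995846871634394415190785270019522121019986796694715018990107861587445910092073425544767585928010, 760069206028056938889037902044143974549814559752874539192735400509577349230146923029912164698032503439608848078514442061906528291099976905791903513335108067349018822355986444426462420522040764103077726212494239469274136447502696804478770230, 421855807094671794278727975722921670843628793702592316781910435650451661194337288461861614385259592841287208675702024288587433632486660856717161908612471139534568221941696088316682086582486017316683514818701799582006222533781732900864402460, 1464840733785656148590672256154016824645115179461629346294078299587985853130999424395209523919436724038634561799614477398489250233199456394703713567150281787110825177838197613380616571187539386516046319712685744458882502638362238584484546325, 2266503259313063246488735817239843366684826135069631069042782326931682779874818054923004753262497125553133744813772428203544299379095280019692532930971890022926119484097912585988151887627906080255456748060860388181633085021280361057963288655, 652905429346183409470099965485421796954683053897404887626022268912851920737759637842987240912176699588840899779896392455446667645237696671291721698630534562047519801847900924298373225508312577874166614121047270263730335380256998896113244255,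 2371597914990177660354904570008252382480975774097298439639603924163898552589764501855084177268953139953977155436280556394025327081548323458081838915829551271411510358084416636763453601378800931447165545205188966530964333384300414822682397250, 2219921439882777481931596546832299275131604424043625785258757021617659814829266577269196530389445469059542185658150314893956233843693483793665323340799331605298689970239439243709772620359691709422636109957409875608019726438750016926346511135, 1563659688838399556362136664254503548490086554615695642931381514964376771956591360040391871231420328807167304902097439638201981772299664692325605025490876984592156311035738773728875229936572500997109479245406233216000253363084752155746187080, 1076981571336046158811598296855762448442425322485485726317580365225143455981248637036834118546318300558723495718945637883547852297222467950836496283447289467905259352692280292035710135028901006511759779076399530757137835135299215626615665410]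
  reps := reps
  nR := 525
  tree := tree
  sorted := sorted
  centGens := centGens
  ks := [1, 2]
  conjs := [(0, 0), (2588655999132934122181803592540829401478235741461634534425884386008017778261719400438093571377185951795686623037610591646536207750197451012513534182007527469183024343517905167456239111873246185932456637713715053908893521621807855268498899200, 1), (2588655999132934122181803592540829401478235741461634534425884386008017778261719400438093571377185951795686623037610591646536207750197451012513534182007527469183024343517905167456239111873246185932456637713715053908893521621807855268498899200, 2), (738068622609578998469185382578191937419247758281875952804000108399177436665504731481632238519019246183530475128268105254761596200992384639168957768194203985835095082261886254762408037446057831031211423402476428835537271269903798692242209025, 1), (2555274593422613939210760104369885128327895886498266165290172625857547524745430685221189161339357367740450456853195643108440874661890323176892174583891934489812573562826747850717888633865611561910624810800786833938603145086568528867853145360, 1), (474453932227381856447346097284831677292299646423890800602864757191670238006570291161644943947475281260997587050454607690851537317641302265329276796021602890599225316399525662414275205560398165011535726542597705291465911753153025112023389700, 1), (738068622609578998469185382578191937419247758281875952804000108399177436665504731481632238519019246183530475128268105254761596200992384639168957768194203985835095082261886254762408037446057831031211423402476428835537271269903798692242209025, 2), (2294996481137635552244244085718513922163943312455606988803880809072745466242789278938566492027412445781756236462201443981661857728374946363300800449295243386147386550486694458805050297136192637081930179698359402332631007757078066127809438215,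 2), (2555274593422613939210760104369885128327895886498266165290172625857547524745430685221189161339357367740450456853195643108440874661890323176892174583891934489812573562826747850717888633865611561910624810800786833938603145086568528867853145360, 2), (2294996481137635552244244085718513922163943312455606988803880809072745466242789278938566492027412445781756236462201443981661857728374946363300800449295243386147386550486694458805050297136192637081930179698359402332631007757078066127809438215, 1), (474453932227381856447346097284831677292299646423890800602864757191670238006570291161644943947475281260997587050454607690851537317641302265329276796021602890599225316399525662414275205560398165011535726542597705291465911753153025112023389700, 2)]
  rels := [
    ([true, false, false, false, true, false], 5),
    ([false, false, false, false, true], 7),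
    ([true, false], 11),
    ([false, true, false, true, false, false, true, false, false, false, true, false, true, false], 7)]
  goods := [(1, 0), (2, 64)]
  bad := bad
  e := 9
  sylGens := sylGens
  sylElts := sylElts

def sep : List (ℕ × List Bool) := [
  (1, [true]),
  (2, [false, false, false, false, false, true, false, false]),
  (3, [false, false, false, false, false, false, true, false]),
  (4, [true]),
  (5, [false, false, false, false, false, false, true, false]),
  (6, [false, false, false, false, false, false, true, false]),
  (7, [false, false, false, false, false, false, true, false]),
  (8, [false, false, false, false, false, false, true, false]),
  (9, [true]),
  (10, [false, false, false, false, false, false, true, false]),
  (11, [false, false, false, false, false, false, true, false]),
  (12, [false, false, false, false, true, false]),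
  (13, [false, false, false, false, false, false, true, false]),
  (14, [false, false, false, false, false, false, true, false]),
  (15, [false, false, false, false, false, false, true, false]),
  (16, [false, false, false, false, false, false, true, false]),
  (17, [true, false, false, true, false, false, true]),
  (18, [false, false, false, true, false, true]),
  (19, [false, false, true, false, false]),
  (20, [false, false, false, true, false, false]),
  (21, [true]),
  (22, [false, true, false, false, false, false, false, false]),
  (23, [false, false, false, false, false, false, true, false]),
  (24, [true]),
  (25, [false, false, true]),
  (26, [false, false, false, false, false, false, true, false]),
  (27, [true, false, true, false, true]),
  (28, [false, false, true, false, false]),
  (29, [false, false, false, false, false, false, true, false]),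
  (30, [true, false, true, false, false, false, false]),
  (31, [false, false, false, true, false, false, false, false]),
  (32, [true]),
  (33, [true]),
  (34, [false, true, false, true, false, false, false]),
  (35, [false, false, true, false, true, false]),
  (36, [false, false, false, false, false, false, true, false]),
  (37, [false, true, false, false, false, true]),
  (38, [false, false, false, false, false, false, true, false]),
  (39, [true]),
  (40, [true]),
  (41, [false, false, false, false, false, false, true, false]),
  (42, [false, false, true, false, false, false, false, false]),
  (43, [false, false, true, false, false, false, false]),
  (44, [false, false, false, false, false, false, true, false]),
  (45, [false, false, false, false, true, false, false, false]),
  (46, [false, false, false, false, false, false, true, false]),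
  (47, [false, false, false, false, true]),
  (48, [true]),
  (49, [false, false, false, false, false, false, true, false]),
  (50, [true]),
  (51, [false, false, false, false, false, false, true, false]),
  (52, [true, false, false, false, false, false]),
  (53, [false]),
  (54, [true]),
  (55, [false, false, false, false, false, false, true, false]),
  (56, [true, false, false]),
  (57, [false, false, false, false, false, false, true, false]),
  (58, [false, false, false, false, false, false, true, false]),
  (59, [true]),
  (60, [true, false, false, false, false, true, false, false]),
  (61, [false, false, false, false, false, false, true, false]),
  (62, [true]),
  (63, [false, false, false, false, false, true, false, false]),
  (64, [true]),
  (65, [true]),
  (66, [false, false, true, false, false, false, false, false]),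
  (67, [false, false, false, false, false, false, true, false]),
  (68, [false, false, false, false, true, false, true]),
  (69, [true]),
  (70, [false, true]),
  (71, [true]),
  (72, [false, false, false, false, true, false, false, false]),
  (73, [false, false, false, false, false, false, true, false]),
  (74, [true, false, false, false, false]),
  (75, [true, false, false, true, false, false, true]),
  (76, [false, true, false, false, false, false, false]),
  (77, [false, false, false, false, true, false, false]),
  (78, [false, false, false, false, false, false, true, false]),
  (79, [false, false, false, false, true]),
  (80, [true, false, true]),
  (81, [false, false, false, true, false, false, false]),
  (82, [true, false]),
  (83, [true, false, false, false, true, false]),
  (84, [false, false, false, false, false, true, false]),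
  (85, [false, false, false, false, false, false, true, false]),
  (86, [false, false, false, false, false, false, true, false]),
  (87, [false, true, false]),
  (88, [false, false, false, false, false, false, true, false]),
  (89, [true]),
  (90, [true, false, false, false, false]),
  (91, [false, false, false, false, false, false, true, false]),
  (92, [true]),
  (93, [false, true, false, true, false, false]),
  (94, [true, false, true, false, false, false]),
  (95, [false, true, false, false, false, false, false, false]),
  (96, [false, false, false, false, false, true]),
  (97, [false, false, false, false, false, false, true, false]),
  (98, [false, false, false, false, false, false, true, false]),
  (99, [false, false, false, false, false, false, true, false])]

def spread : List (List Bool) := [
  [],
  [false, true, false, true, false, false, false, true],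
  [false, false, false, false, false, true, false],
  [true, false, false, true, false, false, false],
  [false, false, false, true, false, false, false, false, true, false],
  [false, true, false, false, false],
  [true, false, false, false, true, false, true, false, true, false],
  [true, false, true, false, true, false],
  [true, false, false, false, true, false],
  [false, false, false, false, false, true],
  [true, false, false, true, false, true, false, true],
  [true, false, false, false, false, false, true, false],
  [false, false, false, false, false, false, false, true],
  [true, false, true, false],
  [true, false, true, false, false, true],
  [false, false, false, false, false, false, true, false, false, false],
  [true, false, false, true, false],
  [false, false, false, false, true, false, false, false, false, true, false],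
  [true, false, false, true, false, true],
  [true, false, false, false, false, true, false, false, false, false, true, false],
  [false, false, false, false, false, false, true],
  [false, false, false, false],
  [true, false, true, false, false, false],
  [false, true, false, true],
  [false, false, false, false, false, false, true, false, true],
  [true, false, true, false, false, true, false],
  [true, false, true, false, true],
  [false, false, true, false, true, false, false, false],
  [false, false, false],
  [true, false, false, false, true, false, true, false, true],
  [true, false, false, true],
  [false, false, false, true, false],
  [false, true, false, false, false, false, true, false, false, false, false, true, false],
  [false, false, false, false, false, false, false, true, false, false, false],
  [false, true, false, false, true],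
  [false, false, false, true, false, true, false, true],
  [true, false, false, true, false, true, false, false, true, false],
  [false, false, false, true, false, true],
  [false, false, true, false, true, false, true, false],
  [false, false, false, true, false, false, true],
  [false, false, true, false, false, true, false, true, false, false, true, false],
  [false, true, false, false, true, false, false, false, true],
  [false, true, false, true, false, false, false],
  [false, false, true, false, false, false, true],
  [false, false, false, false, false, true, false, false, false],
  [false, false, false, true, false, true, false, false, false],
  [true, false, false, false, false, true, false],
  [true, false, false, false, false, false, false, true, false, true, false, false, false],
  [false, false, false, false, false, true, false, true, false, false, false],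
  [false, false, false, false, false, true, false, true],
  [false, true, false, false, false, false, true, false],
  [true, false, true, false, false, false, true],
  [false, false, false, true],
  [true, false, true, false, true, false, true, false],
  [false, false],
  [false, true, false, false, true, false, false, false],
  [false, true, false, false, true, false],
  [false, false, false, true, false, true, false, true, false],
  [false, true, false, true, false],
  [false, false, false, false, true],
  [true, false, false, true, false, false, false, true],
  [false, false, true, false, false, false, false, true, false],
  [false, false, false, false, true, false, true, false, true, false],
  [false, false, false, false, true, false, true, false, false, false],
  [false, false, false, false, false, true, false, true, false, true, false],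
  [false, false, false, false, false, false, false, true, false, true, false, false, false],
  [false, false, true, false],
  [false, false, true, false, true, false, false, false, true],
  [true, false, true],
  [false, false, true, false, false, true],
  [false, false, false, false, true, false, false, false],
  [false, true, false, false, true, false, true, false, false, true, false],
  [false, false, false, false, true, false],
  [false, false, false, false, true, false, true],
  [false],
  [true, false, false, false],
  [false, true, false, false, false, true],
  [false, true],
  [false, true, false, false, false, false, false, true, false],
  [true, false],
  [false, true, false, true, false, true, false],
  [true],
  [false, false, false, true, false, false, false],
  [false, false, true, false, true],
  [false, false, true],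
  [false, false, true, false, true, false, false, true, false],
  [false, true, false, false, false, false, false, false, true],
  [false, false, true, false, false, true, false],
  [true, false, true, false, false, false, false, false, false, true],
  [false, true, false, false, false, true, false],
  [false, false, false, false, false, false, true, false, true, false, false, false],
  [false, true, false, true, false, false, true, false],
  [false, false, false, true, false, true, false, false, false, true],
  [false, false, true, false, true, false, true],
  [false, true, false, true, false, true],
  [false, true, false],
  [true, false, false, false, true],
  [false, false, true, false, false, false],
  [false, false, true, false, false, false, true, false],
  [true, false, false, false, false, false, false, true]]

end CfsgLib.PermAut.HS
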