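import Cfsg.Agent.Lib.Comp.PermChain

/-!
Generated data: transposition factorisations and images under the outer element.
-/

set_option autoImplicit false

namespace CfsgLib.PermAut.HS

def outerImg : ℕ × ℕ := (133496558122506069812274040401596098559205134179397965026125016288606736939805797618016972336204283368996774306626239625004317375085427108316349349749961419250979657578524230039512928701135112472576354386671287483922826946981380476940784685, 729657874988843677145048815073937777058660801823702782089747562307041785324753727551541971766148512053010972861549997457850037613909953919515582828800198511968514820988281396112878256451800433841832689512978201989704327436127159896921473345)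

def outerSwaps : List (ℕ × ℕ) := [(0, 91), (91, 96), (96, 84), (84, 82), (82, 68), (68, 33), (33, 97), (97, 93), (93, 63), (1, 16), (16, 70), (70, 74), (74, 99), (99, 32), (32, 50), (50, 7), (7, 26), (26, 62), (2, 71), (71, 34), (34, 48), (48, 45), (45, 66), (66, 88), (88, 53), (53, 40), (40, 76), (3, 11), (11, 9), (9, 22), (22, 56), (56, 59), (59, 57), (57, 64), (64, 20), (20, 78), (4, 44), (5, 29), (29, 89), (89, 72), (72, 86), (86, 18), (18, 24), (24, 77), (77, 31), (31, 54), (6, 15), (15, 92), (92, 13), (13, 81), (81, 21), (21, 95), (95, 49), (49, 73), (73, 35), (8, 38), (38, 12), (12, 41), (41, 98), (10, 90), (90, 23), (23, 39), (39, 42), (42, 60), (60, 37), (37, 61), (61, 55), (55, 30), (17, 83), (83, 85), (85, 47), (47, 80), (80, 67), (67, 65), (65, 52), (52, 58), (58, 25), (19, 43), (43, 87), (87, 46), (46, 27), (27, 75), (75, 79), (79, 28), (28, 51), (51, 94), (36, 69)]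

def xSwaps : List (ℕ × ℕ) := [(0, 74), (74, 54), (54, 28), (28, 21), (21, 79), (79, 95), (95, 66), (66, 31), (31, 72), (72, 2), (1, 67), (67, 92), (92, 36), (36, 71), (71, 40), (40, 88), (88, 10), (10, 3), (3, 55), (55, 51), (4, 17), (17, 13), (13, 58), (58, 8), (8, 89), (89, 98), (98, 14), (14, 46), (46, 50), (50, 61), (5, 97), (97, 82), (82, 70), (70, 44), (44, 15), (15, 33), (33, 6), (6, 11), (11, 78), (78, 75), (7, 80), (80, 38), (38, 57), (57, 62), (62, 64), (64, 26), (26, 94), (94, 93), (93, 35), (35, 18), (9, 20), (20, 12), (12, 96), (96, 76), (76, 43), (43, 81), (81, 77), (77, 84), (84, 52), (52, 59), (16, 56), (56, 87), (87, 25), (25, 91), (91, 85), (85, 60), (60, 41), (41, 99), (99, 86), (86, 29), (19, 32), (32, 47), (47, 22), (22, 42), (42, 27), (27, 45), (45, 63), (63, 48), (48, 90), (90, 65), (23, 83), (83, 37), (37, 73), (73, 49), (49, 24), (24, 30), (30, 34), (34, 69), (69, 39), (39, 68)]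

def ySwaps : List (ℕ × ℕ) := [(0, 81), (2, 11), (3, 97), (5, 22), (6, 57), (7, 58), (8, 31), (10, 93), (12, 98), (13, 95), (14, 34), (15, 61), (16, 66), (17, 19), (18, 83), (20, 99), (23, 26), (25, 56), (27, 87), (28, 75), (29, 35), (30, 84), (36, 85), (37, 94), (38, 45), (41, 78), (42, 73), (43, 60), (44, 91), (46, 72), (47, 90), (49, 55), (51, 76), (52, 96), (53, 80), (63, 67), (68, 77), (70, 82), (74, 79), (86, 88)]

end CfsgLib.PermAut.HS
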